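import Mathlib
import Groth.Agent.PurityLib.Basic

set_option autoImplicit false
universe u

open CategoryTheory CategoryTheory.Limits AlgebraicGeometry
open scoped TensorProduct

namespace FlatDepthPurityLib

theorem appLE_etale_of_le {X Y : Scheme.{u}} (π : Y ⟶ X) {V : X.Opens} (hV : IsAffineOpen V)
    {W : Y.Opens} (hW : IsAffineOpen W) (e : W ≤ π ⁻¹ᵁ V) [Etale (W.ι ≫ π)] :
    (π.appLE V W e).hom.Etale := by
  haveI : IsAffine (W : Scheme.{u}) := hW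
  have e' : (⊤ : (W : Scheme.{u}).Opens) ≤ (W.ι ≫ π) ⁻¹ᵁ V := fun x _ => e x.2
  have h := HasRingHomProperty.appLE @Etale (W.ι ≫ π) inferInstance ⟨V, hV⟩ ⟨⊤, isAffineOpen_top _⟩ e'
  have key : (W.ι ≫ π).appLE V ⊤ e' = π.appLE V (W.ι ''ᵁ ⊤) (by rwa [W.ι_image_top]) := by
    rw [Scheme.Hom.comp_appLE, Scheme.Opens.ι_appLE]
    rfl
  rw [key] at h
  exact (π.appLE_congr _ rfl W.ι_image_top (fun f => f.hom.Etale)).mp h

/-- A finite flat morphism, étale over an open containing all points of dimension at most one,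
is étale. -/
theorem etale_of_flat {X Y : Scheme.{u}} [IsLocallyNoetherian X] (π : Y ⟶ X) [IsFinite π] [Flat π]
    (U : X.Opens) (hU : ∀ x : X, ringKrullDim (X.presheaf.stalk x) ≤ 1 → x ∈ U)
    [Etale (pullback.snd π U.ι)] : Etale π := by
  haveI hUe : Etale (π ∣_ U) :=
    (MorphismProperty.arrow_mk_iso_iff @Etale
      (Arrow.isoMk (pullbackRestrictIsoRestrict π U) (Iso.refl _)
        (by simp only [Arrow.mk_hom, Iso.refl_hom, Category.comp_id]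
            exact pullbackRestrictIsoRestrict_hom_morphismRestrict π U))).mp ‹_›
  rw [HasRingHomProperty.iff_exists_appLE (P := @Etale)
    (RingHom.Etale.stableUnderComposition.stableUnderCompositionWithLocalizationAway
      (fun R S _ _ _ r _ => RingHom.etale_algebraMap.mpr (Algebra.Etale.of_isLocalizationAway r))).left]
  intro y
  obtain ⟨V, hV, hyV, -⟩ := exists_isAffineOpen_mem_and_subset (X := X) (x := π y) (U := ⊤) trivial
  have hW : IsAffineOpen (π ⁻¹ᵁ V) := hV.preimage π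
  refine ⟨⟨V, hV⟩, ⟨π ⁻¹ᵁ V, hW⟩, hyV, le_rfl, ?_⟩
  haveI : IsNoetherianRing Γ(X, V) := IsLocallyNoetherian.component_noetherian ⟨V, hV⟩
  algebraize [(π.appLE V (π ⁻¹ᵁ V) le_rfl).hom]
  haveI : Module.Finite Γ(X, V) Γ(Y, π ⁻¹ᵁ V) := by
    have := IsFinite.finite_app π V hV
    rwa [Scheme.Hom.app_eq_appLE] at this
  haveI : Module.Flat Γ(X, V) Γ(Y, π ⁻¹ᵁ V) :=
    HasRingHomProperty.appLE @Flat π inferInstance ⟨V, hV⟩ ⟨π ⁻¹ᵁ V, hW⟩ le_rfl
  suffices Algebra.Etale Γ(X, V) Γ(Y, π ⁻¹ᵁ V) from RingHom.etale_algebraMap.mpr this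
  refine PurityLib.etale_of_forall fun p _ => ?_
  haveI : Module.Free (Localization.AtPrime p) (Localization.AtPrime p ⊗[Γ(X, V)] Γ(Y, π ⁻¹ᵁ V)) :=
    Module.free_of_flat_of_isLocalRing
  haveI : IsNoetherianRing (Localization.AtPrime p) :=
    IsLocalization.isNoetherianRing p.primeCompl _ inferInstance
  refine PurityLib.etale_of_free fun q _ hq => ?_
  let q₀ : Ideal Γ(X, V) := q.comap (algebraMap Γ(X, V) (Localization.AtPrime p))
  have hq₀ : q₀.height ≤ 1 := le_of_eq_of_le (IsLocalization.height_comap p.primeCompl q) hq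
  refine PurityLib.EtAt.baseChange q rfl ?_
  -- the point corresponding to `q₀`
  let z : PrimeSpectrum Γ(X, V) := ⟨q₀, inferInstance⟩
  have hzV : hV.fromSpec z ∈ V := by
    have : hV.fromSpec z ∈ Set.range hV.fromSpec := ⟨z, rfl⟩
    rwa [hV.range_fromSpec] at this
  letI := TopCat.Presheaf.algebra_section_stalk X.presheaf (⟨hV.fromSpec z, hzV⟩ : V)
  haveI : IsLocalization.AtPrime (X.presheaf.stalk (hV.fromSpec z)) q₀ :=
    hV.isLocalization_stalk' z hzV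
  have hzU : hV.fromSpec z ∈ U := hU _ (by
    rw [IsLocalization.AtPrime.ringKrullDim_eq_height q₀ (X.presheaf.stalk (hV.fromSpec z))]
    exact_mod_cast hq₀)
  obtain ⟨a, haU, hza⟩ := hV.exists_basicOpen_le ⟨hV.fromSpec z, hzU⟩ hzV
  have ha : a ∉ q₀ := by
    have h1 : z ∈ hV.fromSpec ⁻¹ᵁ X.basicOpen a := hza
    rw [hV.fromSpec_preimage_basicOpen] at h1
    exact h1
  let W := Y.basicOpen (π.appLE V (π ⁻¹ᵁ V) le_rfl a)
  have hWeq : W = π ⁻¹ᵁ X.basicOpen a := by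
    rw [Scheme.preimage_basicOpen, Scheme.Hom.app_eq_appLE]
  have hWU : W ≤ π ⁻¹ᵁ U := hWeq ▸ fun x hx => haU hx
  haveI : Etale (W.ι ≫ π) := by
    rw [← Y.homOfLE_ι hWU, Category.assoc, ← morphismRestrict_ι]
    infer_instance
  have hWV : W ≤ π ⁻¹ᵁ V := Y.basicOpen_le _
  have het := appLE_etale_of_le π hV (hW.basicOpen _) hWV
  let b := algebraMap Γ(X, V) Γ(Y, π ⁻¹ᵁ V) a
  haveI : IsLocalization.Away b Γ(Y, W) := hW.isLocalization_basicOpen _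
  letI : Algebra Γ(X, V) Γ(Y, W) := (π.appLE V W hWV).hom.toAlgebra
  haveI : Algebra.Etale Γ(X, V) Γ(Y, W) := het
  haveI : IsScalarTower Γ(X, V) Γ(Y, π ⁻¹ᵁ V) Γ(Y, W) := IsScalarTower.of_algebraMap_eq' (by
    show (π.appLE V W hWV).hom =
      (Y.presheaf.map (homOfLE (Y.basicOpen_le _)).op).hom.comp (π.appLE V (π ⁻¹ᵁ V) le_rfl).hom
    rw [← CommRingCat.hom_comp, Scheme.Hom.appLE_map])
  let Aa := Localization.Away a
  letI : Algebra Γ(Y, π ⁻¹ᵁ V) (Aa ⊗[Γ(X, V)] Γ(Y, π ⁻¹ᵁ V)) := Algebra.TensorProduct.rightAlgebra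
  haveI : IsScalarTower Γ(X, V) Γ(Y, π ⁻¹ᵁ V) (Aa ⊗[Γ(X, V)] Γ(Y, π ⁻¹ᵁ V)) :=
    IsScalarTower.of_algebraMap_eq fun x => by
      rw [RingHom.algebraMap_toAlgebra]
      exact (AlgHom.commutes (Algebra.TensorProduct.includeRight :
        Γ(Y, π ⁻¹ᵁ V) →ₐ[Γ(X, V)] Aa ⊗[Γ(X, V)] Γ(Y, π ⁻¹ᵁ V)) x).symm
  haveI : IsLocalization (Algebra.algebraMapSubmonoid Γ(Y, π ⁻¹ᵁ V) (Submonoid.powers a))
      (Aa ⊗[Γ(X, V)] Γ(Y, π ⁻¹ᵁ V)) := IsLocalization.tensorRight (R := Γ(X, V)) (A := Aa) (S := Γ(Y, π ⁻¹ᵁ V)) (Submonoid.powers a)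
  haveI : IsLocalization.Away b (Aa ⊗[Γ(X, V)] Γ(Y, π ⁻¹ᵁ V)) := by
    have : IsLocalization (Submonoid.powers b) (Aa ⊗[Γ(X, V)] Γ(Y, π ⁻¹ᵁ V)) := by
      rw [← Submonoid.map_powers]
      exact ‹IsLocalization (Algebra.algebraMapSubmonoid _ _) _›
    exact this
  let e : Γ(Y, W) ≃ₐ[Γ(Y, π ⁻¹ᵁ V)] (Aa ⊗[Γ(X, V)] Γ(Y, π ⁻¹ᵁ V)) :=
    IsLocalization.algEquiv (Submonoid.powers b) _ _
  haveI : Algebra.Etale Γ(X, V) (Aa ⊗[Γ(X, V)] Γ(Y, π ⁻¹ᵁ V)) :=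
    Algebra.Etale.of_equiv (e.restrictScalars Γ(X, V))
  haveI : Algebra.Etale Γ(X, V) Aa := Algebra.Etale.of_isLocalizationAway a
  haveI : Algebra.Etale Aa (Aa ⊗[Γ(X, V)] Γ(Y, π ⁻¹ᵁ V)) :=
    Algebra.Etale.of_restrictScalars Γ(X, V) Aa _
  let φ : Aa →+* Localization.AtPrime q₀ := IsLocalization.Away.lift a
    (g := algebraMap Γ(X, V) (Localization.AtPrime q₀))
    (IsLocalization.map_units (Localization.AtPrime q₀) (⟨a, ha⟩ : q₀.primeCompl))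
  letI : Algebra Aa (Localization.AtPrime q₀) := φ.toAlgebra
  haveI : IsScalarTower Γ(X, V) Aa (Localization.AtPrime q₀) :=
    IsScalarTower.of_algebraMap_eq fun x => (IsLocalization.Away.lift_eq a _ x).symm
  exact Algebra.Etale.of_equiv (Algebra.TensorProduct.cancelBaseChange Γ(X, V) Aa
    (Localization.AtPrime q₀) (Localization.AtPrime q₀) Γ(Y, π ⁻¹ᵁ V))

end FlatDepthPurityLib
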